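import Cfsg.Agent.H849.PiSpor.SZ0
import Cfsg.Agent.S3832

/-!
# S4324, `s = 3`: groups whose order is divisible by no Suzuki order (helper849, task PI-SPOR SZ)

* `nc3_of_card` : `K` nonabelian simple, no `|Sz(2^(2m+1))|` divides `|K|`: `NCs 3 K`.
-/

set_option autoImplicit false

namespace Cfsg.Agent.H849.PiSpor

open Subgroup Cfsg Cfsg.Agent.H216.Pi

universe u

/-- **`s = 3`**: no Suzuki order divides `|K|`. -/
theorem nc3_of_card {K : Type u} [Group K] [Finite K] [IsSimpleGroup K] (hK : ¬ IsMulCommutative K)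
    (hz : ∀ m : ℕ, 1 ≤ m →
      ¬ ((2 ^ (2 * m + 1)) ^ 2 * ((2 ^ (2 * m + 1)) ^ 2 + 1) * (2 ^ (2 * m + 1) - 1) ∣ Nat.card K)) : NCs 3 K :=
  nc3_of (fun _ _ _ x hx => Cfsg.Agent.S3832.result x hx) hK hz

end Cfsg.Agent.H849.PiSpor
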